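/- Upper vanishing of the internal Hom into bounded injective complexes. -/
import Groth.Agent.RHomCx.Main
import Groth.Agent.KFlat.BoundedRes

set_option autoImplicit false
set_option backward.isDefEq.respectTransparency false
set_option backward.isDefEq.respectTransparency.types false
set_option linter.style.haveILetI false
universe u

open CategoryTheory Limits AlgebraicGeometry HomologicalComplex

attribute [local instance] HasDerivedCategory.standard

namespace Groth.Agent.AffDual

open Groth.Agent.KFlat Groth.Agent.RHomCx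

variable {X : Scheme.{u}}

/-- exactness of `Hom(E, I)` tested against flat modules -/
theorem exactAt_GE_of_homotopy_flat {E I : CochainComplex X.Modules ℤ} (i : ℤ)
    (h : ∀ (Z : X.Modules), DCoh.IsKFlat ((single X.Modules (ComplexShape.up ℤ) i).obj Z) →
      ∀ φ : (FE E).obj ((single X.Modules (ComplexShape.up ℤ) i).obj Z) ⟶ I, Nonempty (Homotopy φ 0)) :
    ((GE E).obj I).ExactAt i := by
  rw [exactAt_iff' _ (i - 1) i (i + 1) (by simp) (by simp), ShortComplex.exact_iff_exact_up_to_refinements]
  intro Z x hx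
  let S : CochainComplex X.Modules ℤ := (single X.Modules (ComplexShape.up ℤ) i).obj Z
  haveI : CochainComplex.IsStrictlyLE S i := (CochainComplex.isStrictlyLE_iff _ _).2 fun k hk =>
    isZero_single_obj_X _ _ _ _ (by omega)
  obtain ⟨K, q, -, hflat, hq, hle⟩ := exists_resolution_le_sch S i
  haveI := hq
  haveI := hle
  haveI hepi : Epi (q.f i) := by
    haveI : IsIso (S.homologyπ i) :=
      S.isIso_homologyπ (i - 1) i (by simp) ((isZero_single_obj_X _ _ _ _ (by omega)).eq_of_src _ _)
    haveI : Epi (cyclesMap q i) := by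
      haveI : Epi (cyclesMap q i ≫ S.homologyπ i) := by
        rw [← homologyπ_naturality]; infer_instance
      have he : cyclesMap q i = (cyclesMap q i ≫ S.homologyπ i) ≫ inv (S.homologyπ i) := by simp
      rw [he]; infer_instance
    haveI : IsIso (S.iCycles i) :=
      S.isIso_iCycles i (i + 1) (by simp) ((isZero_single_obj_X _ _ _ _ (by omega)).eq_of_tgt _ _)
    haveI : Epi (K.iCycles i ≫ q.f i) := by
      rw [← cyclesMap_i]; infer_instance
    exact epi_of_epi (K.iCycles i) (q.f i)
  let π : K.X i ⟶ Z := q.f i ≫ (singleObjXSelf (ComplexShape.up ℤ) i Z).hom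
  haveI : Epi π := epi_comp _ _
  have hx' : (π ≫ x) ≫ ((GE E).obj I).d i (i + 1) = 0 :=
    (Category.assoc _ _ _).trans ((congrArg (π ≫ ·) hx).trans comp_zero)
  let φ : (single X.Modules (ComplexShape.up ℤ) i).obj (K.X i) ⟶ (GE E).obj I :=
    mkHomFromSingle (π ≫ x) fun j hj => by
      obtain rfl : i + 1 = j := hj
      exact hx'
  have hK : DCoh.IsKFlat ((single X.Modules (ComplexShape.up ℤ) i).obj (K.X i)) :=
    (rflat_iff_sch _).2 (rflat_single (B := schB X) (flatObj_of_isFlat (hflat i)) i)
  obtain ⟨H⟩ := (homotopy_mate_iff E φ).2 (h _ hK _)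
  refine ⟨K.X i, π, inferInstance, (singleObjXSelf (ComplexShape.up ℤ) i (K.X i)).inv ≫ H.hom i (i - 1), ?_⟩
  have e := H.comm i
  rw [HomologicalComplex.zero_f, add_zero, dNext_eq H.hom (show (ComplexShape.up ℤ).Rel i (i + 1) from rfl),
    prevD_eq H.hom (show (ComplexShape.up ℤ).Rel (i - 1) i from by simp), single_obj_d, zero_comp, zero_add,
    mkHomFromSingle_f] at e
  change π ≫ x = _ ≫ ((GE E).obj I).d (i - 1) i
  exact ((congrArg (_ ≫ ·) e.symm).trans (Iso.inv_hom_id_assoc _ _)).symm.trans (Category.assoc _ _ _).symm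

/-- `Hom(E, I)` vanishes above `b - m` when `I` lives in degrees `≤ b` and `E` in degrees `≥ m` -/
theorem isZero_homology_GE_of_isGE {E : CochainComplex X.Modules ℤ} (m : ℤ) [E.IsGE m]
    (I : CochainComplex X.Modules ℤ) [I.IsKInjective] (b i : ℤ) [I.IsStrictlyLE b] (hi : b < i + m) :
    IsZero (((GE E).obj I).homology i) := by
  refine (exactAt_GE_of_homotopy_flat i fun Z hZ φ => ?_).isZero_homology
  let S : CochainComplex X.Modules ℤ := (single X.Modules (ComplexShape.up ℤ) i).obj Z
  let u : (FE E).obj S ⟶ (FE (E.truncGE m)).obj S := (DCoh.tensorCx.obj S).map (E.πTruncGE m)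
  haveI : QuasiIso u := quasiIso_obj_map_of_kFlat hZ _
  obtain ⟨g₀, hg₀⟩ := KInj.Q_map_surjective (inv (DerivedCategory.Q.map u) ≫ DerivedCategory.Q.map φ)
  have hz : g₀ = 0 := by
    refine HomologicalComplex.hom_ext _ _ fun n => ?_
    by_cases hn : b < n
    · exact (I.isZero_of_isStrictlyLE b n hn).eq_of_tgt _ _
    · refine mapBifunctor.hom_ext fun p q hpq => ?_
      have hpq' : p + q = n := hpq
      refine IsZero.eq_of_src ?_ _ _
      by_cases hp : p = i
      · exact ((schB X).obj _).map_isZero ((E.truncGE m).isZero_of_isStrictlyGE m q (by omega))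
      · exact ((schB X).flip.obj ((E.truncGE m).X q)).map_isZero (isZero_single_obj_X _ _ _ _ hp)
  refine (sub_zero φ) ▸ KInj.nonempty_homotopy_of_Q_map_eq (f := φ) (g := 0) ?_
  rw [Functor.map_zero, ← IsIso.hom_inv_id_assoc (DerivedCategory.Q.map u) (DerivedCategory.Q.map φ), ← hg₀, hz,
    Functor.map_zero, comp_zero]

end Groth.Agent.AffDual
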