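/- Local properties of the internal Hom from complexes with coherent cohomology into bounded injective complexes. -/
import Groth.Agent.AffDual.Vanish
import Groth.Agent.DQCoh.PCTensor
import Groth.Agent.DerPerf.PseudoCoh

set_option autoImplicit false
set_option backward.isDefEq.respectTransparency false
set_option backward.isDefEq.respectTransparency.types false
set_option linter.style.haveILetI false
universe u

open CategoryTheory Limits AlgebraicGeometry HomologicalComplex

attribute [local instance] HasDerivedCategory.standard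

namespace Groth.Agent.AffDual

open Groth.Agent.KFlat Groth.Agent.RHomCx

section Cone

variable {A : Type*} [Category A] [Abelian A] {K L : CochainComplex A ℤ} (f : K ⟶ L)

/-- the cone of a map which is bijective in low degrees -/
theorem isZero_cone_of_lt (m : ℤ) (hiso : ∀ i, i < m → IsIso (homologyMap f i)) (hm : IsZero (K.homology m))
    (i : ℤ) (hi : i < m) : IsZero ((CochainComplex.mappingCone f).homology i) := by
  have hS := KFlat.shortExact_of_splitting (KFlat.cylSplitting f)
  let a : K ⟶ L ⊞ CochainComplex.mappingCone (𝟙 K) := biprod.lift f (CochainComplex.mappingCone.inr (𝟙 K))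
  let p : L ⊞ CochainComplex.mappingCone (𝟙 K) ⟶ L := biprod.fst
  have hp : ∀ j, IsIso (homologyMap p j) := fun j => DerPerf.isIso_homologyMap_cylFst (K := K) (L := L) j
  have hf : ∀ j, homologyMap a j = homologyMap f j ≫ inv (homologyMap p j) := fun j => by
    rw [IsIso.eq_comp_inv, ← homologyMap_comp, biprod.lift_fst]
  have he : Epi (homologyMap a i) := by
    haveI := hiso i hi
    rw [hf]; infer_instance
  refine (hS.homology_exact₃ i (i + 1) (by simp)).isZero_of_both_zeros ?_ ?_
  · refine (@cancel_epi _ _ _ _ _ (homologyMap a i) he _ _).1 ?_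
    exact (homologyMap_comp _ _ i).symm.trans
      (((congrArg (fun t => homologyMap t i) (KFlat.cylSC f).zero).trans (homologyMap_zero _ _ i)).trans comp_zero.symm)
  · by_cases h : i + 1 = m
    · exact (h ▸ hm : IsZero (K.homology (i + 1))).eq_of_tgt _ _
    · haveI := hiso (i + 1) (by omega)
      have hm' : Mono (homologyMap a (i + 1)) := by rw [hf]; infer_instance
      refine (@cancel_mono _ _ _ _ _ (homologyMap a (i + 1)) hm' _ _).1 ?_
      exact (hS.δ_comp i (i + 1) (by simp)).trans zero_comp.symm

end Cone

variable {C : Scheme.{u} → Prop} {P : ∀ Y : Scheme.{u}, Y.Modules → Prop} {X : Scheme.{u}}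

/-- `Hom(E, I)` for a K-flat complex with coherent cohomology and a bounded complex of injectives -/
theorem prop_GE_isCoh [IsLocallyNoetherian X] (h : LocClass C P) (hX : C X) {E : CochainComplex X.Modules ℤ}
    (hE : DCoh.IsKFlat E) (hEc : ∀ k, Coh.IsCoh (E.homology k)) (I : CochainComplex X.Modules ℤ) [I.IsKInjective]
    (a b : ℤ) [I.IsStrictlyGE a] [I.IsStrictlyLE b] (hI : ∀ j, P X (I.homology j)) (i : ℤ) :
    P X (((GE E).obj I).homology i) := by
  let c : ℤ := b - i
  let M := E.truncLE c
  let T := (resF X).obj M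
  let g : T ⟶ E := (resψ X).app M ≫ E.ιTruncLE c
  haveI : T.IsLE c := (CochainComplex.isLE_iff _ _).2 fun k hk => (exactAt_iff_isZero_homology _ _).2
    ((M.isZero_of_isLE c k hk).of_iso (isoOfQuasiIsoAt ((resψ X).app M) k))
  have hg : ∀ k, k < c + 1 → IsIso (homologyMap g k) := fun k hk => by
    haveI : QuasiIsoAt (E.ιTruncLE c) k := E.quasiIsoAt_ιTruncLE c k (by omega)
    rw [homologyMap_comp]
    infer_instance
  haveI : (CochainComplex.mappingCone g).IsGE (c + 1) := (CochainComplex.isGE_iff _ _).2 fun k hk =>
    (exactAt_iff_isZero_homology _ _).2 (isZero_cone_of_lt g (c + 1) hg (T.isZero_of_isLE c (c + 1) (by omega)) k hk)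
  haveI : (coneSC g).X₂.IsGE (c + 1) := ‹(CochainComplex.mappingCone g).IsGE (c + 1)›
  have hT := shortExact_gSC (coneSplitting g) I
  haveI := hT.isIso_δ i (i + 1) (by simp) (isZero_homology_GE_of_isGE (c + 1) I b i (by omega))
    (isZero_homology_GE_of_isGE (c + 1) I b (i + 1) (by omega))
  obtain ⟨e₁⟩ := nonempty_GE_shift T I i
  have hTc : DCoh.IsCohD (DCoh.toD X T) := fun k => by
    refine K0Coh.isCoh_of_iso (KFlat.hdIso T k).symm ?_
    by_cases hk : k < c + 1
    · haveI := hg k hk
      exact K0Coh.isCoh_of_iso (asIso (homologyMap g k)).symm (hEc k)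
    · exact K0Coh.isCoh_of_isZero (T.isZero_of_isLE c k (by omega))
  have hTpc : DCoh.IsPseudoCoherentD (a - i - 1) (DCoh.toD X T) :=
    DQCoh.pc_of_isCohD _ hTc c (fun k hk => (T.isZero_of_isLE c k hk).of_iso (KFlat.hdIso T k)) _
  exact h.iso hX (asIso (hT.δ i (i + 1) rfl) ≪≫ e₁.symm).symm
    (prop_GE_pseudoCoherent h hX (isKFlat_resF M) (a - i - 1) hTpc I a hI i (by omega))

end Groth.Agent.AffDual
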