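/- `(M ⊗ N)~ ≅ M~ ⊗ N~`, natural, and its extension to total tensor complexes. -/
import Groth.Agent.TildeTensor.Basic
import Groth.Agent.RHomCx.Restrict
import Groth.Agent.DQCoh.Affine

set_option autoImplicit false
set_option backward.isDefEq.respectTransparency false
set_option backward.isDefEq.respectTransparency.types false
set_option linter.style.haveILetI false
universe u

open CategoryTheory Limits AlgebraicGeometry MonoidalCategory TensorProduct Opposite TopologicalSpace HomologicalComplex
open Groth.Agent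

namespace Groth.Agent.AffDual

open Groth.Agent.KFlat Groth.Agent.RHomCx

variable {R : CommRingCat.{u}}

/-- the comparison is natural -/
theorem comp_natural {M M' N N' : ModuleCat.{u} R} (a : M ⟶ M') (b : N ⟶ N') :
    (tilde.functor R).map (a ⊗ₘ b) ≫ TildeTensor.comp M' N' =
      TildeTensor.comp M N ≫ (((schB (Spec R)).map ((tilde.functor R).map a)).app (tilde N) ≫
        ((schB (Spec R)).obj (tilde M')).map ((tilde.functor R).map b)) := by
  refine (tilde.adjunction.homEquiv _ _).injective ?_
  have hh : ∀ P Q : ModuleCat.{u} R, tilde.adjunction.homEquiv (P ⊗ Q) _ (TildeTensor.comp P Q) =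
      TildeTensor.beta P Q := fun P Q => Equiv.apply_symm_apply _ _
  refine (tilde.adjunction.homEquiv_naturality_left _ _).trans
    (Eq.trans ?_ (tilde.adjunction.homEquiv_naturality_right _ _).symm)
  refine (congrArg (_ ≫ ·) (hh M' N')).trans (Eq.trans ?_ (congrArg (· ≫ _) (hh M N)).symm)
  refine ModuleCat.MonoidalCategory.tensor_ext fun m n => ?_
  have e : ∀ {P P' : ModuleCat.{u} R} (c : P ⟶ P') (p : P),
      TildeTensor.sec P' (c.hom p) = ((tilde.functor R).map c).app ⊤ (TildeTensor.sec P p) := fun {P P'} c p => by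
    have h := congrArg (fun t => t.hom p) (tilde.adjunction.unit.naturality c)
    exact h
  change TildeTensor.pairS M' N' (TildeTensor.sec M' (a.hom m)) (TildeTensor.sec N' (b.hom n)) =
    ((((schB (Spec R)).map ((tilde.functor R).map a)).app (tilde N) ≫
      ((schB (Spec R)).obj (tilde M')).map ((tilde.functor R).map b)).app ⊤).hom
        (TildeTensor.pairS M N (TildeTensor.sec M m) (TildeTensor.sec N n))
  rw [e, e]
  have h1 := shUnit_natural (DCoh.toP.map ((tilde.functor R).map a) ▷ DCoh.toP.obj (tilde N))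
  have h2 := shUnit_natural (DCoh.toP.obj (tilde M') ◁ DCoh.toP.map ((tilde.functor R).map b))
  have k1 := congrArg (fun t => (t.app (op (⊤ : (Spec R).Opens))).hom (ptmul _ _ (TildeTensor.sec M m) (TildeTensor.sec N n))) h1
  have k2 := congrArg (fun t => (t.app (op (⊤ : (Spec R).Opens))).hom
    (ptmul _ _ (((tilde.functor R).map a).app ⊤ (TildeTensor.sec M m)) (TildeTensor.sec N n))) h2
  refine Eq.trans ?_ (congrArg ((((schB (Spec R)).obj (tilde M')).map ((tilde.functor R).map b)).app ⊤).hom k1)
  exact k2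

/-- `M~ ⊗ N~ ≅ (M ⊗ N)~` -/
noncomputable def tildeTensorIso (M N : ModuleCat.{u} R) :
    ((schB (Spec R)).obj ((tilde.functor R).obj M)).obj ((tilde.functor R).obj N) ≅
      (tilde.functor R).obj (((curriedTensor (ModuleCat.{u} R)).obj M).obj N) :=
  (@asIso _ _ _ _ (TildeTensor.comp M N) (TildeTensor.isIso_comp M N)).symm

lemma tildeTensorIso_natural_left {M M' : ModuleCat.{u} R} (a : M ⟶ M') (N : ModuleCat.{u} R) :
    ((schB (Spec R)).map ((tilde.functor R).map a)).app ((tilde.functor R).obj N) ≫ (tildeTensorIso M' N).hom =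
      (tildeTensorIso M N).hom ≫ (tilde.functor R).map (((curriedTensor (ModuleCat.{u} R)).map a).app N) := by
  haveI := TildeTensor.isIso_comp M N
  haveI := TildeTensor.isIso_comp M' N
  have h := comp_natural a (𝟙 N)
  erw [tensorHom_id, CategoryTheory.Functor.map_id, CategoryTheory.Functor.map_id, Category.comp_id] at h
  rw [tildeTensorIso, tildeTensorIso, Iso.symm_hom, Iso.symm_hom, Iso.comp_inv_eq, Category.assoc]
  exact ((asIso (TildeTensor.comp M N)).inv_comp_eq.2 h).symm.trans rfl

lemma tildeTensorIso_natural_right (M : ModuleCat.{u} R) {N N' : ModuleCat.{u} R} (b : N ⟶ N') :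
    ((schB (Spec R)).obj ((tilde.functor R).obj M)).map ((tilde.functor R).map b) ≫ (tildeTensorIso M N').hom =
      (tildeTensorIso M N).hom ≫ (tilde.functor R).map (((curriedTensor (ModuleCat.{u} R)).obj M).map b) := by
  haveI := TildeTensor.isIso_comp M N
  haveI := TildeTensor.isIso_comp M N'
  have h := comp_natural (𝟙 M) b
  erw [id_tensorHom, CategoryTheory.Functor.map_id, CategoryTheory.Functor.map_id, NatTrans.id_app, Category.id_comp] at h
  rw [tildeTensorIso, tildeTensorIso, Iso.symm_hom, Iso.symm_hom, Iso.comp_inv_eq, Category.assoc]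
  exact ((asIso (TildeTensor.comp M N)).inv_comp_eq.2 h).symm.trans rfl

/-- tilde on complexes -/
noncomputable abbrev tC (R : CommRingCat.{u}) :
    CochainComplex (ModuleCat.{u} R) ℤ ⥤ CochainComplex (Spec R).Modules ℤ :=
  (tilde.functor R).mapHomologicalComplex (ComplexShape.up ℤ)

/-- `L~ ⊗ K~ ≅ (L ⊗ K)~` for complexes -/
noncomputable def tildeTotIso (L K : CochainComplex (ModuleCat.{u} R) ℤ) :
    (DCoh.tensorCx.obj ((tC R).obj L)).obj ((tC R).obj K) ≅ (tC R).obj (L ⊗ K) :=
  have : PreservesColimitsOfSize.{u, u} (tilde.functor R) :=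
    (tilde.adjunction (R := R)).leftAdjoint_preservesColimits
  have : PreservesColimitsOfSize.{0, 0} (tilde.functor R) := preservesSmallestColimits_of_preservesColimits _
  mapTensIso (tilde.functor R) (tilde.functor R) (𝟭 _) (𝟭 _) (tilde.functor R)
    (curriedTensor (ModuleCat.{u} R)) (schB (Spec R)) (fun M N => tildeTensorIso M N)
    (fun a N => tildeTensorIso_natural_left a N) (fun M _ _ b => tildeTensorIso_natural_right M b) L K

lemma tildeTotIso_natural {L L' : CochainComplex (ModuleCat.{u} R) ℤ} (a : L ⟶ L')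
    (K : CochainComplex (ModuleCat.{u} R) ℤ) :
    (FE ((tC R).obj K)).map ((tC R).map a) ≫ (tildeTotIso L' K).hom =
      (tildeTotIso L K).hom ≫ (tC R).map (a ▷ K) := by
  haveI : PreservesColimitsOfSize.{u, u} (tilde.functor R) :=
    (tilde.adjunction (R := R)).leftAdjoint_preservesColimits
  haveI : PreservesColimitsOfSize.{0, 0} (tilde.functor R) := preservesSmallestColimits_of_preservesColimits _
  refine HomologicalComplex.hom_ext _ _ fun n => mapBifunctor.hom_ext fun p q h => ?_
  let F := tilde.functor R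
  let FC := tC R
  let B := curriedTensor (ModuleCat.{u} R)
  have e₁ : ιMapBifunctor (FC.obj L) (FC.obj K) (schB (Spec R)) (ComplexShape.up ℤ) p q n h ≫
      ((FE (FC.obj K)).map (FC.map a)).f n =
        ((schB (Spec R)).map (F.map (a.f p))).app (F.obj (K.X q)) ≫
          ιMapBifunctor (FC.obj L') (FC.obj K) (schB (Spec R)) (ComplexShape.up ℤ) p q n h :=
    (ι_mapBifunctorMap (FC.map a) (𝟙 (FC.obj K)) (schB (Spec R)) _ p q n h).trans (by simp; rfl)
  have e₂ : ∀ M : CochainComplex (ModuleCat.{u} R) ℤ,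
      ιMapBifunctor (FC.obj M) (FC.obj K) (schB (Spec R)) (ComplexShape.up ℤ) p q n h ≫ (tildeTotIso M K).hom.f n =
        (tildeTensorIso (M.X p) (K.X q)).hom ≫ F.map (ιMapBifunctor M K B (ComplexShape.up ℤ) p q n h) :=
    fun M => ι_mapTensX F F (𝟭 _) (𝟭 _) F B (schB (Spec R)) (fun M N => tildeTensorIso M N) M K n p q h
  have e₃ : ιMapBifunctor L K B (ComplexShape.up ℤ) p q n h ≫ (a ▷ K).f n =
      (B.map (a.f p)).app (K.X q) ≫ ιMapBifunctor L' K B (ComplexShape.up ℤ) p q n h :=
    (ι_mapBifunctorMap a (𝟙 K) B _ p q n h).trans (by simp)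
  calc ιMapBifunctor (FC.obj L) (FC.obj K) (schB (Spec R)) (ComplexShape.up ℤ) p q n h ≫
        ((FE (FC.obj K)).map (FC.map a)).f n ≫ (tildeTotIso L' K).hom.f n
      = ((schB (Spec R)).map (F.map (a.f p))).app (F.obj (K.X q)) ≫
          ιMapBifunctor (FC.obj L') (FC.obj K) (schB (Spec R)) (ComplexShape.up ℤ) p q n h ≫ (tildeTotIso L' K).hom.f n := by
        exact (Category.assoc _ _ _).symm.trans ((congrArg (· ≫ _) e₁).trans (Category.assoc _ _ _))
    _ = ((schB (Spec R)).map (F.map (a.f p))).app (F.obj (K.X q)) ≫ (tildeTensorIso (L'.X p) (K.X q)).hom ≫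
          F.map (ιMapBifunctor L' K B (ComplexShape.up ℤ) p q n h) := congrArg _ (e₂ L')
    _ = (tildeTensorIso (L.X p) (K.X q)).hom ≫ F.map ((B.map (a.f p)).app (K.X q)) ≫
          F.map (ιMapBifunctor L' K B (ComplexShape.up ℤ) p q n h) :=
        (Category.assoc _ _ _).symm.trans ((congrArg (· ≫ _) (tildeTensorIso_natural_left (a.f p) (K.X q))).trans
          (Category.assoc _ _ _))
    _ = (tildeTensorIso (L.X p) (K.X q)).hom ≫ F.map (ιMapBifunctor L K B (ComplexShape.up ℤ) p q n h) ≫
          F.map ((a ▷ K).f n) := by rw [← F.map_comp, ← e₃, F.map_comp]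
    _ = ιMapBifunctor (FC.obj L) (FC.obj K) (schB (Spec R)) (ComplexShape.up ℤ) p q n h ≫
          (tildeTotIso L K).hom.f n ≫ F.map ((a ▷ K).f n) := by
        exact (Category.assoc _ _ _).symm.trans ((congrArg (· ≫ _) (e₂ L).symm).trans (Category.assoc _ _ _))

end Groth.Agent.AffDual
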