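/- Global sections of the internal Hom complex out of tilde of a complex. -/
import Groth.Agent.AffDual.TensorNat
import Groth.Agent.Shriek.HomTensor

set_option autoImplicit false
set_option backward.isDefEq.respectTransparency false
set_option backward.isDefEq.respectTransparency.types false
set_option linter.style.haveILetI false
universe u

open CategoryTheory Limits AlgebraicGeometry MonoidalCategory HomologicalComplex

namespace Groth.Agent.AffDual

open Groth.Agent.RHomCx

variable {A : Type u} [CommRing A]

/-- tensor-Hom on complexes -/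
noncomputable def tensHomAdj (P : DRing.Cx A) : tensorRight P ⊣ DRing.homCxFunctor P :=
  Adjunction.mkOfHomEquiv
    { homEquiv := fun Z X => Equiv.ofBijective (Shriek.tpHom (Z := Z) (W := P) (X := X))
        ⟨fun f g h => CochainComplex.HomComplex.Cochain.ofHom_injective (Shriek.tp_injective (by
            rw [← Shriek.ofHom_tpHom, ← Shriek.ofHom_tpHom, h])),
          Shriek.tpHom_surjective⟩
      homEquiv_naturality_left_symm := fun {Z' Z X} f g => by
        rw [Equiv.symm_apply_eq]
        obtain ⟨g', rfl⟩ := Shriek.tpHom_surjective g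
        refine Eq.symm ((Shriek.tpHom_comp f _).trans (congrArg (f ≫ ·) ?_))
        exact Equiv.ofBijective_apply_symm_apply _ _ _
      homEquiv_naturality_right := fun {Z X X'} f g => Shriek.tpHom_comp_right f g }

/-- sections on complexes -/
noncomputable abbrev gC (A : Type u) [CommRing A] :
    CochainComplex (Spec (CommRingCat.of A)).Modules ℤ ⥤ CochainComplex (ModuleCat.{u} A) ℤ :=
  (moduleSpecΓFunctor (R := CommRingCat.of A)).mapHomologicalComplex (ComplexShape.up ℤ)

/-- tilde and sections on complexes -/
noncomputable def tgAdj (A : Type u) [CommRing A] : tC (CommRingCat.of A) ⊣ gC A :=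
  KInj.mapHomologicalComplexAdj (tilde.adjunction (R := CommRingCat.of A)) (ComplexShape.up ℤ)

/-- tilde carries tensor with `P` to tensor with `P~` -/
noncomputable def tensorTildeIso (P : DRing.Cx A) :
    tC (CommRingCat.of A) ⋙ FE ((tC (CommRingCat.of A)).obj P) ≅ tensorRight P ⋙ tC (CommRingCat.of A) :=
  NatIso.ofComponents (fun L => tildeTotIso (R := CommRingCat.of A) L P)
    fun {L L'} a => tildeTotIso_natural (R := CommRingCat.of A) a P

/-- `Γ Hom(P~, -) ≅ Hom(P, Γ -)` -/
noncomputable def gammaGEIso (P : DRing.Cx A) :
    GE ((tC (CommRingCat.of A)).obj P) ⋙ gC A ≅ gC A ⋙ DRing.homCxFunctor P :=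
  Adjunction.rightAdjointUniq (((tgAdj A).comp (adjE _)).ofNatIsoLeft (tensorTildeIso P))
    ((tensHomAdj P).comp (tgAdj A))

end Groth.Agent.AffDual
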