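/- Duality on affine schemes: `RHom` of tildes is the tilde of `RHom`. -/
import Groth.Prelude.Def_DualLC
import Groth.Agent.AffDual.Sections
import Groth.Agent.AffDual.Prop
import Groth.Agent.DQCoh.AffineAmp
import Groth.Agent.RHomCx.DualMain
import Groth.Agent.RHomMod.Derived
import Groth.Agent.RHomMod.Complete
import Groth.Agent.TildeKFlat.Main
import Groth.Agent.W7Hull.Tilde
import Groth.Agent.QC.SpecFT

set_option autoImplicit false
set_option backward.isDefEq.respectTransparency false
set_option backward.isDefEq.respectTransparency.types false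
set_option linter.style.haveILetI false
universe u

open CategoryTheory Limits AlgebraicGeometry HomologicalComplex

attribute [local instance] HasDerivedCategory.standard

namespace Groth.Agent.AffDual

open Groth.Agent.KFlat Groth.Agent.RHomCx

variable {A : Type u} [CommRing A]

/-- sections of tilde of a complex -/
noncomputable def gammaTildeIso (I : DRing.Cx A) : I ≅ (gC A).obj ((tC (CommRingCat.of A)).obj I) :=
  Hom.isoOfComponents (fun i => (tilde.toTildeΓNatIso (R := CommRingCat.of A)).app (I.X i))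
    fun i j _ => ((tilde.toTildeΓNatIso (R := CommRingCat.of A)).hom.naturality (I.d i j)).symm

variable [IsNoetherianRing A] [PreservesFiniteLimits (tilde.functor (CommRingCat.of A))]

/-- **`RHom(K~, L~) ≅ RHom(K, L)~`** -/
theorem nonempty_RSheafHom_tilde (K : DRing.Cx A) (hK : ∀ i : ℤ, Module.Finite A (Dual.HD A (DRing.toD K) i))
    [DRing.HasRHomCx K] (L : Dual.D A) (hL : DRing.HasFiniteInjDim A L)
    (E : CochainComplex (Spec (CommRingCat.of A)).Modules ℤ)
    (hE : Nonempty (DCoh.toD (Spec (CommRingCat.of A)) E ≅ (DCoh.tildeD (CommRingCat.of A)).obj (DRing.toD K)))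
    [DCoh.HasLTensorCx E] [DCoh.HasRSheafHom E] :
    Nonempty ((DCoh.RSheafHom E).obj ((DCoh.tildeD (CommRingCat.of A)).obj L) ≅
      (DCoh.tildeD (CommRingCat.of A)).obj ((DRing.RHomCx K).obj L)) := by
  obtain ⟨a, b, I, hIv, hIi, ⟨eI⟩⟩ := hL
  obtain ⟨eE⟩ := hE
  obtain ⟨P, c, hP, hc, hPflat⟩ := RHomMod.exists_kProj_kFlat_resolution K
  haveI := hP
  haveI := hc
  let J := (tC (CommRingCat.of A)).obj I
  haveI : ∀ i, Injective (J.X i) := fun i => by
    haveI : Module.Injective (CommRingCat.of A) (I.X i) := hIi i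
    haveI : IsNoetherianRing (CommRingCat.of A) := ‹IsNoetherianRing A›
    exact W7Hull.injective_tilde (R := CommRingCat.of A) (I.X i)
  haveI : J.IsStrictlyGE a := (CochainComplex.isStrictlyGE_iff _ _).2 fun i hi =>
    (tilde.functor (CommRingCat.of A)).map_isZero (hIv i (Or.inl hi))
  haveI : J.IsStrictlyLE b := (CochainComplex.isStrictlyLE_iff _ _).2 fun i hi =>
    (tilde.functor (CommRingCat.of A)).map_isZero (hIv i (Or.inr hi))
  haveI : J.IsKInjective := CochainComplex.isKInjective_of_injective J a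
  let PT := (tC (CommRingCat.of A)).obj P
  have hPT : DCoh.IsKFlat PT := TildeKFlat.tilde_isKFlat (R := CommRingCat.of A) P hPflat
  haveI := hasLTensorCx PT
  let eL : DerivedCategory.Q.obj J ≅ (DCoh.tildeD (CommRingCat.of A)).obj L :=
    ((tilde.functor (CommRingCat.of A)).mapDerivedCategoryFactors.app I).symm ≪≫
      (DCoh.tildeD (CommRingCat.of A)).mapIso eI
  let eP : DerivedCategory.Q.obj PT ≅ DerivedCategory.Q.obj E :=
    ((tilde.functor (CommRingCat.of A)).mapDerivedCategoryFactors.app P).symm ≪≫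
      (DCoh.tildeD (CommRingCat.of A)).mapIso (asIso (DerivedCategory.Q.map c)) ≪≫ eE.symm
  obtain ⟨Φ⟩ := nonempty_LTensorCx_congr eP
  haveI : DCoh.HasRSheafHom PT := Functor.isLeftAdjoint_of_iso Φ.symm
  let eR : DCoh.RSheafHom E ≅ DCoh.RSheafHom PT :=
    ((DCoh.RSheafHomAdj E).ofNatIsoLeft Φ.symm).rightAdjointUniq (DCoh.RSheafHomAdj PT)
  obtain ⟨eG⟩ := nonempty_RHom_iso PT hPT J
  haveI := isKInjective_GE J hPT
  have hcoh : ∀ k, Coh.IsCoh (PT.homology k) := fun k => by
    haveI := hK k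
    refine K0Coh.isCoh_of_iso ((KFlat.hdIso PT k).symm ≪≫ (DerivedCategory.homologyFunctor _ k).mapIso
      (eP ≪≫ eE) ≪≫ DQCoh.hdTildeIso (R := CommRingCat.of A) (DRing.toD K) k).symm ?_
    exact ⟨QC.isQCoh_tilde (R := CommRingCat.of A) _, QC.isFT_tilde (R := CommRingCat.of A) _⟩
  have hq : DCoh.IsQCohD (DerivedCategory.Q.obj ((GE PT).obj J)) := fun i =>
    QC.isQCoh_of_iso (KFlat.hdIso _ i).symm (prop_GE_isCoh locClass_qcoh trivial hPT hcoh J a b
      (fun j => DQCoh.isQCoh_homology_of_X J (fun n => QC.isQCoh_tilde _) j) i)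
  haveI := (DerivedCategory.isIso_Q_map_iff_quasiIso _ _).2 (DQCoh.quasiIso_counit (R := CommRingCat.of A) ((GE PT).obj J) hq)
  obtain ⟨eH⟩ := RHomMod.nonempty_RHomCx_iso K c (L := I) eI
  exact ⟨(DCoh.RSheafHom E).mapIso eL.symm ≪≫ eR.app _ ≪≫ eG ≪≫
    (asIso (DerivedCategory.Q.map ((KInj.mapHomologicalComplexAdj (tilde.adjunction (R := CommRingCat.of A))
      (ComplexShape.up ℤ)).counit.app ((GE PT).obj J)))).symm ≪≫
    DerivedCategory.Q.mapIso ((tC (CommRingCat.of A)).mapIso
      ((gammaGEIso P).app J ≪≫ (DRing.homCxFunctor P).mapIso (gammaTildeIso I).symm)) ≪≫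
    ((tilde.functor (CommRingCat.of A)).mapDerivedCategoryFactors.app (DRing.homCx P I)).symm ≪≫
    (DCoh.tildeD (CommRingCat.of A)).mapIso eH.symm⟩

end Groth.Agent.AffDual
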